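import Cfsg.Agent.Lib.SmallGroups.Perm
import Cfsg.Agent.Lib.SmallGroups.PrimeTransitiveSylow
import Cfsg.Agent.S0711
import Mathlib

/-!
Groups that are `t`-transitive but not `(t+1)`-transitive: point-wise stabilisers of sets, their
restrictions to the other points, and divisibility consequences of `(t+1)`-homogeneity.
-/

set_option autoImplicit false
set_option linter.unusedSectionVars false

namespace CfsgLib.SmallGroups.HomExc

open MulAction Equiv

variable {α : Type*} [Fintype α] [DecidableEq α]

/-- Elements of `G` fixing every point of `T`. -/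
def pointFix (G : Subgroup (Perm α)) (T : Finset α) : Subgroup (Perm α) :=
  G ⊓ fixingSubgroup (Perm α) (T : Set α)

theorem mem_pointFix {G : Subgroup (Perm α)} {T : Finset α} {g : Perm α} :
    g ∈ pointFix G T ↔ g ∈ G ∧ ∀ x ∈ T, g x = x := by
  simp [pointFix, mem_fixingSubgroup_iff]

/-- `G` acting on the points outside `T`, through the elements fixing `T`. -/
def restrict (G : Subgroup (Perm α)) (T : Finset α) : Subgroup (Perm {x // x ∉ T}) :=
  G.comap (Perm.ofSubtype (p := fun x => x ∉ T))

theorem mem_restrict {G : Subgroup (Perm α)} {T : Finset α} {h : Perm {x // x ∉ T}} :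
    h ∈ restrict G T ↔ Perm.ofSubtype h ∈ G := Iff.rfl

theorem exists_lift {G : Subgroup (Perm α)} {T : Finset α} {g : Perm α} (hg : g ∈ pointFix G T) :
    ∃ h ∈ restrict G T, Perm.ofSubtype h = g := by
  rw [mem_pointFix] at hg
  have hp : ∀ x, g x ∉ T ↔ x ∉ T := fun x => by
    refine not_congr ⟨fun h => ?_, fun h => by rwa [hg.2 x h]⟩
    have := g.injective (hg.2 _ h)
    rwa [this] at h
  have he : Perm.ofSubtype (p := fun x => x ∉ T) (g.subtypePerm hp) = g := by
    refine Equiv.ext fun x => ?_
    by_cases h : x ∈ T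
    · rw [Perm.ofSubtype_apply_of_not_mem (p := fun x => x ∉ T) _ (fun h' => h' h), hg.2 x h]
    · rw [show x = ((⟨x, h⟩ : {x // x ∉ T}) : α) from rfl, Perm.ofSubtype_apply_coe]
      rfl
  exact ⟨g.subtypePerm hp, by rw [mem_restrict, he]; exact hg.1, he⟩

theorem ofSubtype_mem_pointFix {G : Subgroup (Perm α)} {T : Finset α} {h : Perm {x // x ∉ T}}
    (hh : h ∈ restrict G T) : Perm.ofSubtype h ∈ pointFix G T :=
  mem_pointFix.mpr ⟨hh, fun _ hx => Perm.ofSubtype_apply_of_not_mem h (fun h' => h' hx)⟩

theorem card_restrict (G : Subgroup (Perm α)) (T : Finset α) :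
    Nat.card (restrict G T) = Nat.card (pointFix G T) := by
  refine Nat.card_congr (Equiv.ofBijective
    (fun h => ⟨Perm.ofSubtype (h : Perm {x // x ∉ T}), ofSubtype_mem_pointFix h.2⟩) ⟨?_, ?_⟩)
  · intro a b hab
    exact Subtype.ext (Perm.ofSubtype_injective (congrArg Subtype.val hab))
  · rintro ⟨g, hg⟩
    obtain ⟨h, hh, he⟩ := exists_lift hg
    exact ⟨⟨h, hh⟩, Subtype.ext he⟩

theorem card_compl_points (T : Finset α) :
    Fintype.card {x // x ∉ T} = Fintype.card α - T.card := by
  rw [Fintype.card_subtype, ← Finset.card_compl]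
  congr 1
  ext; simp

theorem card_eq {G : Subgroup (Perm α)} {T : Finset α} {m : ℕ} (hm : T.card = m)
    (hG : IsMultiplyPretransitive G α m) :
    Nat.card G = (Fintype.card α).descFactorial m * Nat.card (pointFix G T) := by
  have h1 := IsMultiplyPretransitive.index_of_fixingSubgroup_eq (G := G) (T : Set α)
    (by rwa [Set.ncard_coe_finset, hm])
  rw [Set.ncard_coe_finset, hm, Nat.card_eq_fintype_card, mul_comm,
    ← Nat.descFactorial_eq_factorial_mul_choose] at h1
  rw [← (fixingSubgroup G (T : Set α)).index_mul_card, h1]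
  congr 1
  refine Nat.card_congr
    { toFun := fun g => ⟨g.1.1, mem_pointFix.mpr ⟨g.1.2, fun x hx =>
        (mem_fixingSubgroup_iff G).mp g.2 x hx⟩⟩
      invFun := fun g => ⟨⟨g.1, (mem_pointFix.mp g.2).1⟩,
        (mem_fixingSubgroup_iff G).mpr fun x hx => (mem_pointFix.mp g.2).2 x hx⟩
      left_inv := fun g => rfl
      right_inv := fun g => rfl }

theorem isMultiplyPretransitive_restrict {G : Subgroup (Perm α)} {T : Finset α} {t : ℕ}
    (hG : IsMultiplyPretransitive G α t) (htn : t ≤ Fintype.card α) (hT : T.card ≤ t) :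
    IsMultiplyPretransitive (restrict G T) {x // x ∉ T} (t - T.card) := by
  rw [isMultiplyPretransitive_iff]
  intro x y
  obtain ⟨σ, hσ⟩ := Perm.exists_smul_eq_embedding x y
  obtain ⟨g, hgG, hg⟩ := exists_mem_eq_on_finset hG htn
    (T ∪ Finset.univ.map (x.trans (Function.Embedding.subtype _)))
    (le_trans (Finset.card_union_le _ _) (by simp; omega))
    (Perm.ofSubtype σ) (Perm.ofSubtype σ).injective.injOn
  obtain ⟨h, hh, he⟩ := exists_lift (g := g) (mem_pointFix.mpr ⟨hgG, fun z hz => by
    rw [hg z (Finset.mem_union_left _ hz), Perm.ofSubtype_apply_of_not_mem σ (fun h => h hz)]⟩)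
  refine ⟨⟨h, hh⟩, Function.Embedding.ext fun i => ?_⟩
  rw [Function.Embedding.smul_apply, ← hσ, Function.Embedding.smul_apply]
  show h (x i) = σ (x i)
  have h1 := hg (x i : α) (Finset.mem_union_right _ (Finset.mem_map.mpr ⟨i, Finset.mem_univ _, rfl⟩))
  rw [← he, Perm.ofSubtype_apply_coe, Perm.ofSubtype_apply_coe] at h1
  exact Subtype.ext h1

/-- Some `t + 1` ordered points cannot be moved to some others, in a form adapted to a fixed
`t`-set. -/
theorem exists_not_rel {G : Subgroup (Perm α)} {t : ℕ} (ht : IsMultiplyPretransitive G α t)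
    (hns : ¬ IsMultiplyPretransitive G α (t + 1)) {T : Finset α} (hT : T.card = t) :
    ∃ a, a ∉ T ∧ ∃ b, b ∉ T ∧ ∀ g ∈ pointFix G T, g a ≠ b := by
  by_contra hcon
  push Not at hcon
  apply hns
  rw [isMultiplyPretransitive_iff]
  intro x y
  set e : Fin t ↪ α := (T.equivFinOfCardEq hT).symm.toEmbedding.trans (Function.Embedding.subtype _)
    with he
  haveI := ht
  obtain ⟨g₁, hg₁⟩ := exists_smul_eq G ((Fin.castSuccEmb).trans x) e
  obtain ⟨g₂, hg₂⟩ := exists_smul_eq G ((Fin.castSuccEmb).trans y) e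
  have hout : ∀ (z : Fin (t + 1) ↪ α) (g : G), g • ((Fin.castSuccEmb).trans z) = e →
      g • z (Fin.last t) ∉ T := by
    intro z g hg hmem
    set i : Fin t := T.equivFinOfCardEq hT ⟨_, hmem⟩
    have h1 : e i = g • z (Fin.last t) := by simp [he, i]
    rw [← hg, Function.Embedding.smul_apply] at h1
    exact Fin.castSucc_ne_last i (z.injective (MulAction.injective g h1))
  obtain ⟨k, hk, hkab⟩ := hcon _ (hout x g₁ hg₁) _ (hout y g₂ hg₂)
  rw [mem_pointFix] at hk
  refine ⟨g₂⁻¹ * ⟨k, hk.1⟩ * g₁, Function.Embedding.ext fun i => ?_⟩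
  rw [Function.Embedding.smul_apply, mul_smul, mul_smul, inv_smul_eq_iff]
  refine Fin.lastCases ?_ (fun j => ?_) i
  · exact hkab
  · have h1 : g₁ • x j.castSucc = e j := congrArg (fun z : Fin t ↪ α => z j) hg₁
    have h2 : g₂ • y j.castSucc = e j := congrArg (fun z : Fin t ↪ α => z j) hg₂
    rw [h1, h2]
    exact hk.2 _ (by simp [he])

theorem not_restrict_succ {G : Subgroup (Perm α)} {t : ℕ} (ht : IsMultiplyPretransitive G α t)
    (hns : ¬ IsMultiplyPretransitive G α (t + 1)) (htn : t + 1 ≤ Fintype.card α) {S : Finset α}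
    (hS : S.card ≤ t) :
    ¬ IsMultiplyPretransitive (restrict G S) {x // x ∉ S} (t + 1 - S.card) := by
  intro hR
  obtain ⟨T, hST, -, hT⟩ := Finset.exists_subsuperset_card_eq (Finset.subset_univ S) hS
    (by rw [Finset.card_univ]; omega)
  obtain ⟨a, ha, b, hb, hab⟩ := exists_not_rel ht hns hT
  have haS : a ∉ S := fun h => ha (hST h)
  have hbS : b ∉ S := fun h => hb (hST h)
  obtain ⟨h, hh, hval⟩ := exists_mem_eq_on_finset hR (by rw [card_compl_points]; omega)
    (insert (⟨a, haS⟩ : {x // x ∉ S}) (T.subtype fun x => x ∉ S))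
    (by
      refine le_trans (Finset.card_insert_le _ _) ?_
      rw [Finset.card_subtype, Finset.filter_notMem_eq_sdiff, Finset.card_sdiff_of_subset hST]
      omega)
    (Equiv.swap ⟨a, haS⟩ ⟨b, hbS⟩) (Equiv.injective _).injOn
  refine hab (Perm.ofSubtype h) (mem_pointFix.mpr ⟨hh, fun x hx => ?_⟩) ?_
  · by_cases hxS : x ∈ S
    · exact Perm.ofSubtype_apply_of_not_mem h (fun h' => h' hxS)
    · rw [show x = ((⟨x, hxS⟩ : {x // x ∉ S}) : α) from rfl, Perm.ofSubtype_apply_coe,
        hval _ (Finset.mem_insert_of_mem (by simp [hx])), Equiv.swap_apply_of_ne_of_ne]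
      · intro e; cases e; exact ha hx
      · intro e; cases e; exact hb hx
  · rw [show a = ((⟨a, haS⟩ : {x // x ∉ S}) : α) from rfl, Perm.ofSubtype_apply_coe,
      hval _ (Finset.mem_insert_self _ _), Equiv.swap_apply_left]

theorem choose_dvd {G : Subgroup (Perm α)} {k : ℕ} (hk : k ≤ Fintype.card α)
    (hh : IsPretransitive G (Set.powersetCard α k)) :
    (Fintype.card α).choose k ∣ Nat.card G := by
  obtain ⟨s, -, hs⟩ := Finset.exists_subset_card_eq (s := (Finset.univ : Finset α)) (n := k)
    (by rw [Finset.card_univ]; exact hk)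
  have h := MulAction.index_stabilizer_of_transitive (G := G) (⟨s, hs⟩ : Set.powersetCard α k)
  rw [Set.powersetCard.card, Nat.card_eq_fintype_card (α := α)] at h
  rw [← h]
  exact Subgroup.index_dvd_card _

theorem sub_dvd_factorial_mul {G : Subgroup (Perm α)} {t : ℕ} {T : Finset α} (hT : T.card = t)
    (htn : t + 1 ≤ Fintype.card α) (ht : IsMultiplyPretransitive G α t)
    (hh : IsPretransitive G (Set.powersetCard α (t + 1))) :
    Fintype.card α - t ∣ (t + 1).factorial * Nat.card (pointFix G T) := by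
  have h := Nat.mul_dvd_mul_left (t + 1).factorial (choose_dvd htn hh)
  rw [← Nat.descFactorial_eq_factorial_mul_choose, Nat.descFactorial_succ, card_eq hT ht,
    mul_left_comm] at h
  rw [mul_comm] at h
  exact Nat.dvd_of_mul_dvd_mul_left (Nat.descFactorial_pos.mpr (by omega)) h

theorem support_subset_compl {G : Subgroup (Perm α)} {T : Finset α} {g : Perm α}
    (hg : g ∈ pointFix G T) : g.support ⊆ Tᶜ := fun x hx => by
  rw [Finset.mem_compl]
  exact fun h => Perm.mem_support.mp hx ((mem_pointFix.mp hg).2 x h)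

theorem card_support_le {G : Subgroup (Perm α)} {T : Finset α} {g : Perm α}
    (hg : g ∈ pointFix G T) : g.support.card ≤ Fintype.card α - T.card := by
  rw [← Finset.card_compl]
  exact Finset.card_le_card (support_subset_compl hg)

/-- A prime equal to the number of remaining points does not divide the stabiliser of `t` points. -/
theorem prime_not_dvd {G : Subgroup (Perm α)} {t : ℕ} (ht : IsMultiplyPretransitive G α t)
    (hns : ¬ IsMultiplyPretransitive G α (t + 1)) {T : Finset α} (hT : T.card = t) {p : ℕ}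
    (hp : p.Prime) (hn : Fintype.card α = t + p) : ¬ p ∣ Nat.card (pointFix G T) := by
  intro hd
  haveI := Fact.mk hp
  obtain ⟨g, hg⟩ := exists_prime_orderOf_dvd_card' p hd
  rw [← Subgroup.orderOf_coe] at hg
  have hle : (g : Perm α).support.card ≤ p := by
    have := card_support_le g.2; omega
  have hc : (g : Perm α).IsCycle :=
    Perm.isCycle_of_prime_order (hg ▸ hp) (by have := hp.pos; omega)
  have hsupp : (g : Perm α).support = Tᶜ := by
    refine Finset.eq_of_subset_of_card_le (support_subset_compl g.2) ?_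
    rw [← hc.orderOf, hg, Finset.card_compl]
    omega
  obtain ⟨a, ha, b, hb, hab⟩ := exists_not_rel ht hns hT
  obtain ⟨i, hi⟩ := hc.exists_zpow_eq (x := a) (y := b)
    (Perm.mem_support.mp (by rw [hsupp]; simpa using ha))
    (Perm.mem_support.mp (by rw [hsupp]; simpa using hb))
  exact hab _ (zpow_mem g.2 i) hi

/-- Not `(t+1)`-transitive groups do not contain the alternating group. -/
theorem not_alternating_le {G : Subgroup (Perm α)} {t : ℕ}
    (hns : ¬ IsMultiplyPretransitive G α (t + 1)) (htn : t + 3 ≤ Fintype.card α) :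
    ¬ alternatingGroup α ≤ G := by
  intro hA
  apply hns
  haveI := alternatingGroup.isMultiplyPretransitive α
  haveI : IsMultiplyPretransitive (alternatingGroup α) α (t + 1) :=
    isMultiplyPretransitive_of_le (n := Nat.card α - 2) (by rw [Nat.card_eq_fintype_card]; omega)
      (Nat.sub_le _ _)
  rw [isMultiplyPretransitive_iff]
  intro x y
  obtain ⟨g, hg⟩ := exists_smul_eq (alternatingGroup α) x y
  exact ⟨⟨g.1, hA g.2⟩, hg⟩

theorem pointFix_eq_bot {G : Subgroup (Perm α)} {t : ℕ} (ht : IsMultiplyPretransitive G α t)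
    (h3 : 3 ≤ t) (htn : t ≤ Fintype.card α) (hA : ¬ alternatingGroup α ≤ G) {T : Finset α}
    (hT : T.card = t) (hn : Fintype.card α + 2 < 3 * t) : pointFix G T = ⊥ := by
  rw [Subgroup.eq_bot_iff_forall]
  intro g hg
  by_contra hne
  have := card_support_le hg
  exact hA (Cfsg.Agent.S0711.result G h3 htn ht g (mem_pointFix.mp hg).1 hne (by omega)).2

theorem card_support_ofSubtype' {T : Finset α} (h : Perm {x // x ∉ T}) :
    (Perm.ofSubtype h).support.card = h.support.card := by
  rw [Perm.support_ofSubtype, Finset.card_map]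

theorem not_alternating_le_restrict {G : Subgroup (Perm α)} (hprim : IsPreprimitive G α)
    (hA : ¬ alternatingGroup α ≤ G) {T : Finset α} (h3 : T.card + 3 ≤ Fintype.card α) :
    ¬ alternatingGroup {x // x ∉ T} ≤ restrict G T := by
  intro hle
  have hc : 3 ≤ Fintype.card {x // x ∉ T} := by rw [card_compl_points]; omega
  obtain ⟨f⟩ := Function.Embedding.nonempty_of_card_le
    (show Fintype.card (Fin 3) ≤ Fintype.card {x // x ∉ T} by rwa [Fintype.card_fin])
  have h3c : (Equiv.swap (f 0) (f 1) * Equiv.swap (f 0) (f 2)).IsThreeCycle :=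
    Perm.isThreeCycle_swap_mul_swap_same (f.injective.ne (by decide)) (f.injective.ne (by decide))
      (f.injective.ne (by decide))
  have hmem := hle h3c.mem_alternatingGroup
  refine hA (alternatingGroup_le_of_small_support hprim hmem ?_ ?_)
  · intro h
    rw [← map_one (Perm.ofSubtype (p := fun x => x ∉ T))] at h
    have := Perm.ofSubtype_injective h
    rw [this] at h3c
    simpa using h3c.orderOf
  · rw [card_support_ofSubtype', h3c.card_support]

/-- In a soluble transitive group of prime degree two fixed points force the identity. -/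
theorem eq_one_of_fix_two {p : ℕ} [Fact p.Prime] (hα : Fintype.card α = p)
    {G : Subgroup (Perm α)} [IsPretransitive G α] (hs : Group.IsSolvable G) {g : Perm α}
    (hg : g ∈ G) {x y : α} (hxy : x ≠ y) (hx : g x = x) (hy : g y = y) : g = 1 := by
  obtain ⟨σ, hσG, hσ, hle⟩ := le_normalizer_of_isSolvable hα G hs
  obtain ⟨e, -, he⟩ := exists_coord hα hσ x
  obtain ⟨a, c, -, hac⟩ := coord_of_conj hσ he ((hle hg σ).mp (Subgroup.mem_zpowers σ))
  obtain ⟨i, rfl⟩ := e.surjective x
  obtain ⟨j, rfl⟩ := e.surjective y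
  have h1 : a * i + c = i := e.injective ((hac i).symm.trans hx)
  have h2 : a * j + c = j := e.injective ((hac j).symm.trans hy)
  have ha : a = 1 := by
    have h3 : (a - 1) * (i - j) = 0 := by linear_combination h1 - h2
    rcases mul_eq_zero.mp h3 with h | h
    · exact sub_eq_zero.mp h
    · exact absurd (congrArg e (sub_eq_zero.mp h)) hxy
  have hc : c = 0 := by rw [ha] at h1; linear_combination h1
  ext z
  obtain ⟨k, rfl⟩ := e.surjective z
  rw [hac, ha, hc, one_mul, add_zero]; rfl

/-- A soluble transitive group of prime degree `p` has order at most `p (p - 1)`, with equality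
only if it is doubly transitive. -/
theorem card_le_of_isSolvable {p : ℕ} [Fact p.Prime] (hα : Fintype.card α = p)
    {G : Subgroup (Perm α)} [IsPretransitive G α] (hs : Group.IsSolvable G) :
    Nat.card G ≤ p * (p - 1) ∧
      (Nat.card G = p * (p - 1) → IsMultiplyPretransitive G α 2) := by
  have h1 : 1 < Fintype.card α := hα.symm ▸ (Fact.out : p.Prime).one_lt
  obtain ⟨u, v, huv⟩ := Fintype.one_lt_card_iff.mp h1
  set f : G → {q : α × α // q.1 ≠ q.2} := fun g =>
    ⟨(g.1 u, g.1 v), fun h => huv (g.1.injective h)⟩ with hf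
  have hinj : Function.Injective f := by
    intro g h hgh
    have h1 : (g.1 u, g.1 v) = (h.1 u, h.1 v) := congrArg Subtype.val hgh
    rw [Prod.mk.injEq] at h1
    have := eq_one_of_fix_two hα hs (g := h.1⁻¹ * g.1) (mul_mem (inv_mem h.2) g.2) huv
      (by rw [Perm.mul_apply, h1.1]; simp)
      (by rw [Perm.mul_apply, h1.2]; simp)
    exact Subtype.ext (inv_mul_eq_one.mp this).symm
  have hcard : Nat.card {q : α × α // q.1 ≠ q.2} = p * (p - 1) := by
    rw [Nat.card_eq_fintype_card, Fintype.card_subtype]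
    rw [show (Finset.univ.filter fun q : α × α => q.1 ≠ q.2) = (Finset.univ : Finset α).offDiag by
      ext q; simp]
    rw [Finset.offDiag_card, Finset.card_univ, hα, Nat.mul_sub, mul_one]
  refine ⟨hcard ▸ Nat.card_le_card_of_injective f hinj, fun heq => ?_⟩
  have hb : Function.Bijective f := hinj.bijective_of_nat_card_le (by rw [hcard, heq])
  rw [is_two_pretransitive_iff]
  intro a b c d hab hcd
  obtain ⟨g, hg⟩ := hb.2 ⟨(a, b), hab⟩
  obtain ⟨h, hh⟩ := hb.2 ⟨(c, d), hcd⟩
  have g1 : (g.1 u, g.1 v) = (a, b) := congrArg Subtype.val hg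
  have h1 : (h.1 u, h.1 v) = (c, d) := congrArg Subtype.val hh
  rw [Prod.mk.injEq] at g1 h1
  refine ⟨h * g⁻¹, ?_, ?_⟩
  · rw [mul_smul, ← h1.1, ← g1.1]
    show h.1 (g.1⁻¹ (g.1 u)) = h.1 u
    simp
  · rw [mul_smul, ← h1.2, ← g1.2]
    show h.1 (g.1⁻¹ (g.1 v)) = h.1 v
    simp

end CfsgLib.SmallGroups.HomExc
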