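import Cfsg.Agent.Lib.SmallGroups.HomogeneousExceptions.SmallDegree
import Cfsg.Agent.S0708
import Cfsg.Agent.S0710
import Mathlib

/-!
Groups of high transitivity in which the stabilisers of `t` points are trivial.
-/

set_option autoImplicit false
set_option linter.unusedSectionVars false

namespace CfsgLib.SmallGroups.HomExc

open MulAction Equiv

variable {α : Type*} [Fintype α] [DecidableEq α]

theorem pointFix_restrict_eq_bot {G : Subgroup (Perm α)} {t : ℕ}
    (hbot : ∀ T : Finset α, T.card = t → pointFix G T = ⊥) {S : Finset α} (hS : S.card ≤ t)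
    {U : Finset {x // x ∉ S}} (hU : U.card = t - S.card) :
    pointFix (restrict G S) U = ⊥ := by
  rw [Subgroup.eq_bot_iff_forall]
  intro h hh
  rw [mem_pointFix] at hh
  have hT : (S ∪ U.map (Function.Embedding.subtype _)).card = t := by
    rw [Finset.card_union_of_disjoint, Finset.card_map, hU]
    · omega
    · rw [Finset.disjoint_left]
      intro x hx hx'
      obtain ⟨y, -, rfl⟩ := Finset.mem_map.mp hx'
      exact y.2 hx
  have hm : Perm.ofSubtype h ∈ pointFix G (S ∪ U.map (Function.Embedding.subtype _)) := by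
    refine mem_pointFix.mpr ⟨hh.1, fun x hx => ?_⟩
    rcases Finset.mem_union.mp hx with hx | hx
    · exact Perm.ofSubtype_apply_of_not_mem h (fun h' => h' hx)
    · obtain ⟨y, hy, rfl⟩ := Finset.mem_map.mp hx
      show Perm.ofSubtype h (y : α) = y
      rw [Perm.ofSubtype_apply_coe, hh.2 y hy]
  rw [hbot _ hT, Subgroup.mem_bot, ← map_one (Perm.ofSubtype (p := fun x => x ∉ S))] at hm
  exact Perm.ofSubtype_injective hm

/-- There is no sharply four-transitive group of degree nine. -/
theorem no_sharp_four_nine {G : Subgroup (Perm α)} (hn : Fintype.card α = 9)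
    (ht : IsMultiplyPretransitive G α 4) (hbot : ∀ T : Finset α, T.card = 4 → pointFix G T = ⊥)
    (hA : ¬ alternatingGroup α ≤ G) : False := by
  classical
  haveI : Fact (Nat.Prime 7) := ⟨by norm_num⟩
  have hprim := isPreprimitive_of_isMultiplyPretransitive ht (by omega) (by omega)
  obtain ⟨S, hS⟩ := exists_points (α := α) (t := 2) (by omega)
  obtain ⟨a, b, hab, hSab⟩ := Finset.card_eq_two.mp hS
  set K := restrict G S with hKdef
  have h7 : Fintype.card {x // x ∉ S} = 7 := by rw [card_compl_points, hS, hn]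
  have h7' : Fintype.card {x // x ∉ S} < 2 * 7 := by omega
  have hK2 : IsMultiplyPretransitive K {x // x ∉ S} 2 := by
    have := isMultiplyPretransitive_restrict (T := S) ht (by omega) (by omega)
    rwa [hS] at this
  haveI : IsPretransitive K {x // x ∉ S} := isPretransitive_of_is_two_pretransitive
  obtain ⟨U, hU⟩ := exists_points (α := {x // x ∉ S}) (t := 2) (by omega)
  have hK : Nat.card K = 42 := by
    rw [card_eq hU hK2, h7, pointFix_restrict_eq_bot hbot (by omega) (by omega), Subgroup.card_bot]
    rfl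
  obtain ⟨P⟩ : Nonempty (Sylow 7 K) := inferInstance
  have hP : Nat.card (P : Subgroup K) = 7 := card_sylow_prime_degree h7 K P
  have hsub : Subsingleton (Sylow 7 K) := by
    have h1 : Nat.card (Sylow 7 K) ∣ 6 := by
      have h := P.card_dvd_index
      have hi := (P : Subgroup K).card_mul_index
      rw [hP, hK] at hi
      rwa [show (P : Subgroup K).index = 6 by omega] at h
    have h2 := card_sylow_modEq_one 7 K
    have h3 := Nat.le_of_dvd (by norm_num) h1
    rw [Nat.ModEq] at h2
    exact (Nat.card_eq_one_iff_unique.mp (by omega)).1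
  obtain ⟨σ, hσ, hPσ⟩ := exists_sylow_generator h7 K P
  have huniq : ∀ τ ∈ K, orderOf τ = 7 → τ ∈ Subgroup.zpowers (σ : Perm {x // x ∉ S}) := by
    intro τ hτK hτ
    have hz : IsPGroup 7 (Subgroup.zpowers (⟨τ, hτK⟩ : K)) :=
      IsPGroup.of_card (n := 1) (by rw [Nat.card_zpowers, Subgroup.orderOf_mk, hτ, pow_one])
    obtain ⟨Q, hQ⟩ := hz.exists_le_sylow
    rw [Subsingleton.elim Q P, hPσ] at hQ
    obtain ⟨i, hi⟩ := Subgroup.mem_zpowers_iff.mp (hQ (Subgroup.mem_zpowers _))
    exact Subgroup.mem_zpowers_iff.mpr ⟨i, by simpa using congrArg Subtype.val hi⟩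
  set N := Subgroup.normalizer
    ((Subgroup.zpowers (σ : Perm {x // x ∉ S}) : Subgroup _) : Set (Perm {x // x ∉ S}))
  have hconj : ∀ g : Perm {x // x ∉ S}, g * σ * g⁻¹ ∈ Subgroup.zpowers (σ : Perm {x // x ∉ S}) →
      g ∈ N := by
    intro g hg
    refine Subgroup.mem_normalizer_fintype fun x hx => ?_
    obtain ⟨i, rfl⟩ := Subgroup.mem_zpowers_iff.mp hx
    rw [← conj_zpow]
    exact Subgroup.zpow_mem _ hg i
  have hKN : K = N := by
    refine Subgroup.eq_of_le_of_card_ge (fun k hk => hconj k (huniq _ ?_ ?_)) ?_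
    · exact mul_mem (mul_mem hk σ.2) (inv_mem hk)
    · rw [show k * (σ : Perm {x // x ∉ S}) * k⁻¹ = MulAut.conj k (σ : Perm {x // x ∉ S}) from rfl,
        MulEquiv.orderOf_eq, hσ]
    · rw [hK, card_normalizer_perm h7' (by rw [Nat.card_zpowers, hσ]), h7]
      rfl
  set s : Perm α := Perm.ofSubtype (σ : Perm {x // x ∉ S}) with hs
  have hsG : s ∈ pointFix G S := ofSubtype_mem_pointFix σ.2
  have hcyc : s.IsCycle := by
    refine Perm.isCycle_of_prime_order' ?_ ?_ <;>
      rw [hs, orderOf_injective _ Perm.ofSubtype_injective, hσ]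
    · norm_num
    · omega
  have hsupp : s.support = Sᶜ := by
    refine Finset.eq_of_subset_of_card_le (support_subset_compl hsG) ?_
    rw [← hcyc.orderOf, hs, orderOf_injective _ Perm.ofSubtype_injective, hσ, Finset.card_compl]
    omega
  -- an element swapping `a` and `b`
  obtain ⟨x, hxG, hx⟩ := exists_mem_eq_on_finset ht (by omega) S (by omega) (Equiv.swap a b)
    (Equiv.injective _).injOn
  have hxa : x a = b := by rw [hx a (by simp [hSab]), Equiv.swap_apply_left]
  have hxb : x b = a := by rw [hx b (by simp [hSab]), Equiv.swap_apply_right]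
  have hsab : s a = a ∧ s b = b :=
    ⟨(mem_pointFix.mp hsG).2 a (by simp [hSab]), (mem_pointFix.mp hsG).2 b (by simp [hSab])⟩
  have hxs : x * s * x⁻¹ ∈ pointFix G S := by
    refine mem_pointFix.mpr ⟨mul_mem (mul_mem hxG (mem_pointFix.mp hsG).1) (inv_mem hxG), ?_⟩
    intro z hz
    rw [hSab, Finset.mem_insert, Finset.mem_singleton] at hz
    rcases hz with rfl | rfl
    · rw [Perm.mul_apply, Perm.mul_apply, show x⁻¹ z = b by rw [← hxb]; simp, hsab.2, hxb]
    · rw [Perm.mul_apply, Perm.mul_apply, show x⁻¹ z = a by rw [← hxa]; simp, hsab.1, hxa]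
  obtain ⟨τ, hτK, hτ⟩ := exists_lift hxs
  have hτ7 : orderOf τ = 7 := by
    rw [← orderOf_injective _ Perm.ofSubtype_injective, hτ,
      show x * s * x⁻¹ = MulAut.conj x s from rfl, MulEquiv.orderOf_eq, hs,
      orderOf_injective _ Perm.ofSubtype_injective, hσ]
  obtain ⟨g, hg⟩ := exists_conj_eq_pow h7' hσ hτ7
  have hgK : g ∈ K := hKN ▸ hconj g (hg ▸ huniq τ hτK hτ7)
  obtain ⟨hgG, hgS⟩ := mem_pointFix.mp (ofSubtype_mem_pointFix hgK)
  set z := (Perm.ofSubtype g)⁻¹ * x with hz
  have hga : ∀ y ∈ S, (Perm.ofSubtype g)⁻¹ y = y := fun y hy => by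
    conv_lhs => rw [← hgS y hy]
    simp
  have hza : z a = b := by rw [hz, Perm.mul_apply, hxa, hga b (by simp [hSab])]
  have hzb : z b = a := by rw [hz, Perm.mul_apply, hxb, hga a (by simp [hSab])]
  have hcomm : Commute z s := by
    have h1 : x * s * x⁻¹ = Perm.ofSubtype g * s * (Perm.ofSubtype g)⁻¹ := by
      rw [← hτ, ← hg, map_mul, map_mul, map_inv]
    show z * s = s * z
    rw [hz]
    calc (Perm.ofSubtype g)⁻¹ * x * s = (Perm.ofSubtype g)⁻¹ * (x * s * x⁻¹) * x := by group
      _ = s * ((Perm.ofSubtype g)⁻¹ * x) := by rw [h1]; group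
  obtain ⟨hc', hi⟩ := hcyc.commute_iff.mp hcomm
  obtain ⟨i, hi⟩ := Subgroup.mem_zpowers_iff.mp hi
  set w := (s ^ i)⁻¹ * z with hw
  have hwS : ∀ y, y ∉ S → w y = y := by
    intro y hy
    have hy' : y ∈ s.support := by rw [hsupp]; simpa using hy
    rw [hw, Perm.mul_apply]
    have h1 : (s ^ i) y = z y := by
      rw [hi, show y = ((⟨y, hy'⟩ : {v // v ∈ s.support}) : α) from rfl, Perm.ofSubtype_apply_coe]
      rfl
    rw [← h1]; simp
  have hfix : ∀ y ∈ S, (s ^ i)⁻¹ y = y := fun y hy => by
    have := Perm.zpow_apply_eq_self_of_apply_eq_self ((mem_pointFix.mp hsG).2 y hy) (-i)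
    rwa [zpow_neg] at this
  have hwa : w a = b := by rw [hw, Perm.mul_apply, hza, hfix b (by simp [hSab])]
  have hwG : w ∈ G :=
    mul_mem (inv_mem (zpow_mem (mem_pointFix.mp hsG).1 i)) (mul_mem (inv_mem hgG) hxG)
  refine hA (alternatingGroup_le_of_small_support hprim hwG
    (fun h => hab (by rw [← hwa, h]; rfl)) ?_)
  refine le_trans (Finset.card_le_card (t := S) fun y hy => ?_) (by omega)
  by_contra hyS
  exact Perm.mem_support.mp hy (hwS y hyS)

/-- No group that is `t`- but not `(t+1)`-transitive, `t ≥ 4`, is `(t+1)`-homogeneous with trivial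
stabilisers of `t` points and at least three further points. -/
theorem no_sharp {G : Subgroup (Perm α)} {t : ℕ} (h4 : 4 ≤ t) (htn : t + 3 ≤ Fintype.card α)
    (ht : IsMultiplyPretransitive G α t) (hns : ¬ IsMultiplyPretransitive G α (t + 1))
    (hh : IsPretransitive G (Set.powersetCard α (t + 1)))
    (hbot : ∀ T : Finset α, T.card = t → pointFix G T = ⊥) : False := by
  classical
  have hA := not_alternating_le hns htn
  have hprim := isPreprimitive_of_isMultiplyPretransitive ht (by omega) (by omega)
  obtain ⟨T, hT⟩ := exists_points (α := α) (t := t) (by omega)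
  have hr : Fintype.card α - t ∣ (t + 1).factorial := by
    have := sub_dvd_factorial_mul hT (by omega) ht hh
    rwa [hbot T hT, Subgroup.card_bot, mul_one] at this
  obtain ⟨S, hS⟩ := exists_points (α := α) (t := t - 4) (by omega)
  set H := restrict G S with hH
  have hβ : Fintype.card {x // x ∉ S} = Fintype.card α - t + 4 := by
    rw [card_compl_points, hS]; omega
  have hH4 : IsMultiplyPretransitive H {x // x ∉ S} 4 := by
    have := isMultiplyPretransitive_restrict (T := S) ht (by omega) (by omega)
    rwa [hS, show t - (t - 4) = 4 by omega] at this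
  have hHbot : ∀ U : Finset {x // x ∉ S}, U.card = 4 → pointFix H U = ⊥ := fun U hU =>
    pointFix_restrict_eq_bot hbot (by omega) (by omega)
  have hsharp : ∀ x : Fin 4 ↪ {x // x ∉ S}, stabilizer H x = ⊥ := by
    intro x
    rw [Subgroup.eq_bot_iff_forall]
    intro g hg
    have hm : g.1 ∈ pointFix H (Finset.univ.map x) := mem_pointFix.mpr ⟨g.2, fun y hy => by
      obtain ⟨i, -, rfl⟩ := Finset.mem_map.mp hy
      exact congrArg (fun e : Fin 4 ↪ {x // x ∉ S} => e i) hg⟩
    rw [hHbot _ (by simp), Subgroup.mem_bot] at hm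
    exact Subtype.ext hm
  obtain ⟨-, h11, heven⟩ := Cfsg.Agent.S0708.result hH4 hsharp
    (Function.Embedding.nonempty_of_card_le (by rw [Fintype.card_fin, hβ]; omega))
  rw [Nat.card_eq_fintype_card, hβ] at h11 heven
  have hr' : Fintype.card α - t = 3 ∨ Fintype.card α - t = 5 ∨ Fintype.card α - t = 7 := by
    have : ¬ Even (Fintype.card α - t + 4) := fun h => by have := heven h; omega
    rw [Nat.not_even_iff] at this
    omega
  have hHA := not_alternating_le_restrict hprim hA (T := S) (by omega)
  rcases hr' with h | h | h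
  · exact seven_three (by omega)
      (isMultiplyPretransitive_of_le (n := 4) (by omega) (by rw [Nat.card_eq_fintype_card]; omega))
      hHA
  · exact no_sharp_four_nine (by omega) hH4 hHbot hHA
  · have h6 : 6 ≤ t := by
      rw [h, (show Nat.Prime 7 by norm_num).dvd_factorial] at hr
      omega
    obtain ⟨S', hS'⟩ := exists_points (α := α) (t := t - 6) (by omega)
    set H' := restrict G S' with hH'
    have h13 : Fintype.card {x // x ∉ S'} = 13 := by rw [card_compl_points, hS']; omega
    have hH6 : IsMultiplyPretransitive H' {x // x ∉ S'} 6 := by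
      have := isMultiplyPretransitive_restrict (T := S') ht (by omega) (by omega)
      rwa [hS', show t - (t - 6) = 6 by omega] at this
    haveI := isMultiplyPretransitive_of_le (G := H') (α := {x // x ∉ S'}) (m := 1) (n := 6)
      (by omega) (by rw [Nat.card_eq_fintype_card]; omega)
    haveI : IsPretransitive H' {x // x ∉ S'} := is_one_pretransitive_iff.mp inferInstance
    obtain ⟨U, hU⟩ := exists_points (α := {x // x ∉ S'}) (t := 6) (by omega)
    apply Cfsg.Agent.S0710.result h13 H'
    rw [card_eq hU hH6, h13, pointFix_restrict_eq_bot hbot (by omega) (by omega), Subgroup.card_bot]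
    rfl

end CfsgLib.SmallGroups.HomExc
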