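import Cfsg.Agent.Lib.SmallGroups.HomogeneousExceptions.Basic
import Cfsg.Agent.Lib.PGroup.SelfCentSimple.PSL
import Cfsg.Agent.Lib.Char.Burnside
import Cfsg.Agent.S0675
import Cfsg.Agent.S0678
import Cfsg.Agent.S0679
import Cfsg.Agent.S0713
import Mathlib

/-!
The small degrees in the Livingstone–Wagner exceptional cases.
-/

set_option autoImplicit false
set_option linter.unusedSectionVars false

namespace CfsgLib.SmallGroups.HomExc

open MulAction Equiv

variable {α : Type*} [Fintype α] [DecidableEq α]

/-- An element of prime order `p` with `p + 3 ≤ n < 2 p` gives the alternating group. -/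
theorem alternating_of_prime_dvd {G : Subgroup (Perm α)} (hprim : IsPreprimitive G α) {p : ℕ}
    (hp : p.Prime) (h5 : 5 ≤ Fintype.card α) (h1 : p + 3 ≤ Fintype.card α)
    (h2 : Fintype.card α < 2 * p) (hd : p ∣ Nat.card G) : alternatingGroup α ≤ G := by
  haveI := Fact.mk hp
  obtain ⟨g, hg⟩ := exists_prime_orderOf_dvd_card' p hd
  rw [← Subgroup.orderOf_coe] at hg
  exact Cfsg.Agent.S0713.result G hprim hp h5 h1 (Perm.isCycle_of_prime_order' (hg ▸ hp) (hg ▸ h2))
    (card_support_of_orderOf_eq h2 hg) g.2

theorem exists_points {t : ℕ} (h : t ≤ Fintype.card α) : ∃ T : Finset α, T.card = t := by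
  obtain ⟨T, -, hT⟩ := Finset.exists_subset_card_eq (s := (Finset.univ : Finset α)) (n := t)
    (by rwa [Finset.card_univ])
  exact ⟨T, hT⟩

/-- Degree `5`, two-transitive: the two point stabiliser is trivial. -/
theorem five_two {G : Subgroup (Perm α)} (hn : Fintype.card α = 5)
    (ht : IsMultiplyPretransitive G α 2) (hns : ¬ IsMultiplyPretransitive G α (2 + 1)) :
    Nat.card G = 20 := by
  have hA := not_alternating_le hns (by omega)
  have hprim := isPreprimitive_of_isMultiplyPretransitive ht le_rfl (by omega)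
  obtain ⟨T, hT⟩ := exists_points (α := α) (t := 2) (by omega)
  have hb : pointFix G T = ⊥ := by
    rw [Subgroup.eq_bot_iff_forall]
    intro g hg
    by_contra hne
    exact hA (alternatingGroup_le_of_small_support hprim (mem_pointFix.mp hg).1 hne
      (by have := card_support_le hg; omega))
  rw [card_eq hT ht, hn, hb, Subgroup.card_bot]
  rfl

/-- In degree `6` no group is two- but not three-transitive and three-homogeneous. -/
theorem six_two {G : Subgroup (Perm α)} (hn : Fintype.card α = 6)
    (ht : IsMultiplyPretransitive G α 2) (hns : ¬ IsMultiplyPretransitive G α (2 + 1))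
    (hh : IsPretransitive G (Set.powersetCard α (2 + 1))) : False := by
  have hA := not_alternating_le hns (by omega)
  have hprim := isPreprimitive_of_isMultiplyPretransitive ht le_rfl (by omega)
  obtain ⟨T, hT⟩ := exists_points (α := α) (t := 2) (by omega)
  have hcard : Nat.card G = 30 * Nat.card (pointFix G T) := by
    rw [card_eq hT ht, hn]; rfl
  have hsupp : ∀ g ∈ pointFix G T, g ≠ 1 → g.support = Tᶜ := by
    intro g hg hne
    refine Finset.eq_of_subset_of_card_le (support_subset_compl hg) ?_
    rw [Finset.card_compl, hn, hT]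
    by_contra hlt
    exact hA (alternatingGroup_le_of_small_support hprim (mem_pointFix.mp hg).1 hne (by omega))
  obtain ⟨a, ha, b, hb, hab⟩ := exists_not_rel ht hns hT
  have hle : Nat.card (pointFix G T) ≤ 3 := by
    have hc : (Tᶜ.erase b).card = 3 := by
      rw [Finset.card_erase_of_mem (by simpa using hb), Finset.card_compl, hn, hT]
    rw [← hc, ← Nat.card_eq_finsetCard]
    refine Nat.card_le_card_of_injective (fun g : pointFix G T => (⟨g.1 a, Finset.mem_erase.mpr
      ⟨hab g.1 g.2, Finset.mem_compl.mpr fun h => ha ?_⟩⟩ : ↥(Tᶜ.erase b))) ?_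
    · have := g.1.injective ((mem_pointFix.mp g.2).2 _ h)
      rwa [this] at h
    · intro g h hgh
      have e : g.1 a = h.1 a := congrArg Subtype.val hgh
      by_contra hne
      have hne' : h.1⁻¹ * g.1 ≠ 1 := fun e' => hne (Subtype.ext (inv_mul_eq_one.mp e').symm)
      have := hsupp _ (mul_mem (inv_mem h.2) g.2) hne'
      have ha' : a ∈ (h.1⁻¹ * g.1).support := by rw [this]; simpa using ha
      rw [Perm.mem_support, Perm.mul_apply, e] at ha'
      exact ha' (by simp)
  have h20 := choose_dvd (k := 2 + 1) (by omega) hh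
  rw [hn, hcard, show Nat.choose 6 (2 + 1) = 20 from rfl] at h20
  have h1 : 1 ≤ Nat.card (pointFix G T) := Nat.card_pos
  obtain ⟨c, hc⟩ := h20
  have hg2 : Nat.card (pointFix G T) = 2 := by omega
  obtain ⟨σ, hσ⟩ := exists_prime_orderOf_dvd_card' (G := pointFix G T) 2 (by rw [hg2])
  rw [← Subgroup.orderOf_coe] at hσ
  obtain ⟨hσG, hσT⟩ := mem_pointFix.mp σ.2
  have hσ1 : σ.1 ≠ 1 := fun h => by rw [h, orderOf_one] at hσ; omega
  have hinv : ∀ z, σ.1 (σ.1 z) = z := fun z => by
    rw [← Perm.mul_apply, ← pow_two, ← hσ, pow_orderOf_eq_one]; rfl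
  obtain ⟨x₀, hx₀⟩ : ∃ x₀, x₀ ∈ T := Finset.card_pos.mp (by omega)
  have hmv : σ.1 a ≠ a := by
    rw [← Perm.mem_support, hsupp σ.1 σ.2 hσ1]; simpa using ha
  have hxa : x₀ ≠ a := fun h => ha (h ▸ hx₀)
  have hxs : x₀ ≠ σ.1 a := fun h => hxa (σ.1.injective ((hσT x₀ hx₀).trans h))
  let E : Set.powersetCard α (2 + 1) := ⟨{x₀, a, σ.1 a}, by
    show Finset.card _ = _
    rw [Finset.card_insert_of_notMem (by simp [hxa, hxs]), Finset.card_pair hmv.symm]⟩
  have hst := (stabilizer G E).card_mul_index
  rw [index_stabilizer_of_transitive, Set.powersetCard.card, Nat.card_eq_fintype_card (α := α), hn,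
    hcard, hg2, show Nat.choose 6 (2 + 1) = 20 from rfl] at hst
  have h3 : Nat.card (stabilizer G E) = 3 := by omega
  have hmem : (⟨σ.1, hσG⟩ : G) ∈ stabilizer G E := by
    rw [mem_stabilizer_iff]
    apply Subtype.ext
    show Finset.image (fun z => σ.1 z) {x₀, a, σ.1 a} = {x₀, a, σ.1 a}
    simp only [Finset.image_insert, Finset.image_singleton, hσT x₀ hx₀, hinv]
    rw [Finset.pair_comm (σ.1 a) a]
  have hd := orderOf_dvd_natCard (⟨⟨σ.1, hσG⟩, hmem⟩ : stabilizer G E)
  rw [Subgroup.orderOf_mk, Subgroup.orderOf_mk, hσ, h3] at hd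
  omega

/-- No three-transitive group of degree seven other than the alternating and symmetric ones. -/
theorem seven_three {G : Subgroup (Perm α)} (hn : Fintype.card α = 7)
    (ht : IsMultiplyPretransitive G α 3) (hA : ¬ alternatingGroup α ≤ G) : False := by
  haveI := isMultiplyPretransitive_of_le (G := G) (α := α) (m := 1) (n := 3) (by omega)
    (by rw [Nat.card_eq_fintype_card]; omega)
  haveI : IsPretransitive G α := is_one_pretransitive_iff.mp inferInstance
  haveI : Fact (Nat.Prime 7) := ⟨by norm_num⟩
  obtain ⟨T, hT⟩ := exists_points (α := α) (t := 3) (by omega)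
  have hcard : Nat.card G = 210 * Nat.card (pointFix G T) := by
    rw [card_eq hT ht, hn]; rfl
  have hpos : 1 ≤ Nat.card (pointFix G T) := Nat.card_pos
  have hns : ¬ Group.IsSolvable G := fun hs => by
    have := (card_le_of_isSolvable hn hs).1
    omega
  have := (Cfsg.Agent.S0678.result hn G hns hA).1
  omega

/-- The `3`-transitive groups of degree nine which are not four-transitive but `4`-homogeneous. -/
theorem nine_three {G : Subgroup (Perm α)} (hn : Fintype.card α = 9)
    (ht : IsMultiplyPretransitive G α 3) (hns : ¬ IsMultiplyPretransitive G α (3 + 1)) :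
    Nat.card G = 504 ∨ Nat.card G = 1512 := by
  haveI : Fact (Nat.Prime 7) := ⟨by norm_num⟩
  obtain ⟨T, hT⟩ := exists_points (α := α) (t := 3) (by omega)
  obtain ⟨e, b, c, heb, hec, hbc, hTe⟩ := Finset.card_eq_three.mp hT
  have hS : ({e, b} : Finset α).card = 2 := Finset.card_pair heb
  set H := restrict G ({e, b} : Finset α) with hH
  have h7 : Fintype.card {x // x ∉ ({e, b} : Finset α)} = 7 := by rw [card_compl_points, hS, hn]
  haveI : IsPretransitive H {x // x ∉ ({e, b} : Finset α)} := by
    have := isMultiplyPretransitive_restrict (T := ({e, b} : Finset α)) ht (by omega) (by omega)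
    rw [hS] at this
    exact is_one_pretransitive_iff.mp this
  have hn2 : ¬ IsMultiplyPretransitive H {x // x ∉ ({e, b} : Finset α)} 2 := by
    have := not_restrict_succ ht hns (by omega) (S := ({e, b} : Finset α)) (by omega)
    rwa [hS] at this
  have hsolv : Group.IsSolvable H :=
    (Cfsg.Agent.S0675.result (by rw [h7]; norm_num) H).resolve_right hn2
  have hGT : Nat.card G = 504 * Nat.card (pointFix G T) := by rw [card_eq hT ht, hn]; rfl
  have hGH : Nat.card G = 72 * Nat.card H := by
    haveI := isMultiplyPretransitive_of_le (G := G) (α := α) (m := 2) (n := 3) (by omega)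
      (by rw [Nat.card_eq_fintype_card]; omega)
    rw [card_eq hS inferInstance, hn, hH, card_restrict]; rfl
  obtain ⟨hle, heq⟩ := card_le_of_isSolvable h7 hsolv
  obtain ⟨σH, -, hσ7, hnorm⟩ := le_normalizer_of_isSolvable h7 H hsolv
  have hdvd : Nat.card H ∣ 42 := by
    have h1 : Nat.card (Subgroup.zpowers σH) = 7 := by rw [Nat.card_zpowers, hσ7]
    have h2 := Subgroup.card_dvd_of_le hnorm
    rwa [card_normalizer_perm (by rw [h7]; omega) h1, h7] at h2
  have hne : Nat.card H ≠ 42 := fun h => hn2 (heq h)
  have hg : Nat.card (pointFix G T) ≠ 2 := by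
    intro hg2
    obtain ⟨σ, hσ⟩ := exists_prime_orderOf_dvd_card' (G := pointFix G T) 2 (by rw [hg2])
    rw [← Subgroup.orderOf_coe] at hσ
    obtain ⟨hσG, hσT⟩ := mem_pointFix.mp σ.2
    have hσe : σ.1 e = e := hσT e (by rw [hTe]; simp)
    have hσb : σ.1 b = b := hσT b (by rw [hTe]; simp)
    have hσc : σ.1 c = c := hσT c (by rw [hTe]; simp)
    have hfix : ∀ x, σ.1 x = x → x = e ∨ x = b ∨ x = c := by
      intro x hx
      by_contra hx'
      push Not at hx'
      obtain ⟨h, hh, hσh⟩ := exists_lift (G := G) (T := ({e, b} : Finset α)) (g := σ.1)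
        (mem_pointFix.mpr ⟨hσG, by simp [hσe, hσb]⟩)
      have hxS : x ∉ ({e, b} : Finset α) := by simp [hx'.1, hx'.2.1]
      have hcS : c ∉ ({e, b} : Finset α) := by simp [hec.symm, hbc.symm]
      have := eq_one_of_fix_two h7 hsolv hh (x := ⟨c, hcS⟩) (y := ⟨x, hxS⟩)
        (fun h' => hx'.2.2 (congrArg Subtype.val h').symm)
        (Subtype.ext (by rw [← Perm.ofSubtype_apply_coe, hσh, hσc]))
        (Subtype.ext (by rw [← Perm.ofSubtype_apply_coe, hσh, hx]))
      rw [this, map_one] at hσh
      rw [← hσh, orderOf_one] at hσ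
      omega
    -- pass to the stabiliser of `e`, a group of order 112 on eight points
    set K := restrict G ({e} : Finset α) with hK
    have h8 : Fintype.card {x // x ∉ ({e} : Finset α)} = 8 := by
      rw [card_compl_points, Finset.card_singleton, hn]
    haveI hK2 : IsMultiplyPretransitive K {x // x ∉ ({e} : Finset α)} 2 := by
      have := isMultiplyPretransitive_restrict (T := ({e} : Finset α)) ht (by omega) (by simp)
      rwa [Finset.card_singleton] at this
    haveI : IsPreprimitive K {x // x ∉ ({e} : Finset α)} :=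
      isPreprimitive_of_is_two_pretransitive hK2
    have hK112 : Nat.card K = 112 := by
      haveI := isMultiplyPretransitive_of_le (G := G) (α := α) (m := 1) (n := 3) (by omega)
        (by rw [Nat.card_eq_fintype_card]; omega)
      have := card_eq (G := G) (T := ({e} : Finset α)) (Finset.card_singleton e) inferInstance
      rw [hn, ← card_restrict, ← hK, hGT, hg2] at this
      simp only [Nat.descFactorial_one] at this
      omega
    have hKs : Group.IsSolvable K :=
      CfsgLib.Char.isSolvable_of_card_eq_pow_mul_pow Nat.prime_two (show Nat.Prime 7 by norm_num)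
        (a := 4) (b := 1) (by rw [hK112]; norm_num)
    classical
    obtain ⟨n, hn0⟩ := (Group.isSolvable_def K).mp hKs
    have hex : ∃ n, derivedSeries K n = ⊥ := ⟨n, hn0⟩
    obtain ⟨k, hk⟩ : ∃ k, Nat.find hex = k + 1 := Nat.exists_eq_succ_of_ne_zero (by
      intro h
      have h0 := Nat.find_spec hex
      rw [h, derivedSeries_zero] at h0
      haveI : Nontrivial K := Finite.one_lt_card_iff_nontrivial.mp (by omega)
      exact top_ne_bot h0)
    set D := derivedSeries K k with hD
    have hDne : D ≠ ⊥ := Nat.find_min hex (by omega)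
    have hDab : ∀ x ∈ D, ∀ y ∈ D, y * x = x * y := by
      have := Nat.find_spec hex
      rw [hk, derivedSeries_succ] at this
      intro x hx y hy
      exact Subgroup.mem_centralizer_iff.mp
        (Subgroup.commutator_eq_bot_iff_le_centralizer.mp this hx) y hy
    haveI : D.Normal := derivedSeries_normal K k
    have htrans : ∀ N : Subgroup K, N.Normal → N ≠ ⊥ →
        IsPretransitive N {x // x ∉ ({e} : Finset α)} := by
      intro N hN hNne
      haveI := hN
      refine IsQuasiPreprimitive.isPretransitive_of_normal fun h => hNne ?_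
      rw [Subgroup.eq_bot_iff_forall]
      intro d hd
      refine Subtype.ext (Equiv.ext fun x => ?_)
      exact (h ▸ Set.mem_univ x : x ∈ fixedPoints N {x // x ∉ ({e} : Finset α)}) ⟨d, hd⟩
    let D₂ : Subgroup K :=
      { carrier := {d | d ∈ D ∧ d * d = 1}
        one_mem' := ⟨one_mem D, one_mul 1⟩
        mul_mem' := fun {x y} hx hy => ⟨mul_mem hx.1 hy.1, by
          rw [mul_assoc, ← mul_assoc y, hDab x hx.1 y hy.1, mul_assoc x y y, hy.2, mul_one, hx.2]⟩
        inv_mem' := fun {x} hx => ⟨inv_mem hx.1, by rw [← mul_inv_rev, hx.2, inv_one]⟩ }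
    haveI hD2n : D₂.Normal := ⟨fun d hd g => ⟨Subgroup.Normal.conj_mem inferInstance d hd.1 g, by
      rw [show g * d * g⁻¹ * (g * d * g⁻¹) = g * (d * d) * g⁻¹ by group, hd.2]; group⟩⟩
    have hD2ne : D₂ ≠ ⊥ := by
      haveI := htrans D inferInstance hDne
      obtain ⟨x⟩ : Nonempty {x // x ∉ ({e} : Finset α)} := Fintype.card_pos_iff.mp (by omega)
      have h2 : 2 ∣ Nat.card D := by
        have h := Subgroup.index_dvd_card (stabilizer D x)
        rw [index_stabilizer_of_transitive, Nat.card_eq_fintype_card, h8] at h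
        exact dvd_trans (by norm_num) h
      obtain ⟨d, hd⟩ := exists_prime_orderOf_dvd_card' (G := D) 2 h2
      intro h
      have hd2 : (d : K) ∈ D₂ := ⟨d.2, by
        have := pow_orderOf_eq_one d
        rw [hd, pow_two] at this
        exact congrArg Subtype.val this⟩
      rw [h, Subgroup.mem_bot, OneMemClass.coe_eq_one] at hd2
      rw [hd2, orderOf_one] at hd
      omega
    haveI := htrans D₂ hD2n hD2ne
    have hbe : b ∉ ({e} : Finset α) := by simp [heb.symm]
    have hce : c ∉ ({e} : Finset α) := by simp [hec.symm]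
    set pb : {x // x ∉ ({e} : Finset α)} := ⟨b, hbe⟩
    have hreg : ∀ d ∈ D₂, ∀ d' ∈ D₂, d • pb = d' • pb → d = d' := by
      intro d hd d' hd' hdd
      refine Subtype.ext (Equiv.ext fun x => ?_)
      obtain ⟨u, hu⟩ := exists_smul_eq D₂ pb x
      rw [← hu]
      show (d * (u : K)) • pb = (d' * (u : K)) • pb
      rw [← hDab d hd.1 u u.2.1, ← hDab d' hd'.1 u u.2.1, mul_smul, mul_smul, hdd]
    obtain ⟨h, hh, hσh⟩ := exists_lift (G := G) (T := ({e} : Finset α)) (g := σ.1)
      (mem_pointFix.mpr ⟨hσG, by simp [hσe]⟩)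
    set s : K := ⟨h, hh⟩ with hs
    have hss : s * s = 1 := by
      apply Subtype.ext
      apply Perm.ofSubtype_injective
      show Perm.ofSubtype (h * h) = Perm.ofSubtype 1
      rw [map_mul, hσh, map_one, ← pow_two, ← hσ, pow_orderOf_eq_one]
    have hsb : s • pb = pb := Subtype.ext (by
      show ((h pb : {x // x ∉ ({e} : Finset α)}) : α) = b
      rw [← Perm.ofSubtype_apply_coe, hσh, hσb])
    have hs' : s⁻¹ = s := inv_eq_of_mul_eq_one_right hss
    have hsb' : s⁻¹ • pb = pb := by rw [hs', hsb]
    -- the fixed points of `s` in `D₂` inject into `{b, c}`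
    set C := {d : D₂ // s * (d : K) * s⁻¹ = d}
    have hC : Nat.card C ≤ 2 := by
      have hc2 : Nat.card ({pb, ⟨c, hce⟩} : Finset {x // x ∉ ({e} : Finset α)}) = 2 := by
        rw [Nat.card_eq_finsetCard, Finset.card_pair]
        exact fun h' => hbc (congrArg Subtype.val h')
      rw [← hc2]
      refine Nat.card_le_card_of_injective (fun d : C => (⟨(d.1 : K) • pb, ?_⟩ :
        ↥({pb, ⟨c, hce⟩} : Finset {x // x ∉ ({e} : Finset α)}))) ?_
      · have hfx : s • ((d.1 : K) • pb) = (d.1 : K) • pb := by
          calc s • ((d.1 : K) • pb) = (s * (d.1 : K) * s⁻¹) • pb := by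
                rw [mul_smul, mul_smul, hsb']
            _ = (d.1 : K) • pb := by rw [d.2]
        have h1 : σ.1 ((((d.1 : K) • pb : {x // x ∉ ({e} : Finset α)})) : α) =
            (((d.1 : K) • pb : {x // x ∉ ({e} : Finset α)}) : α) := by
          rw [← hσh, Perm.ofSubtype_apply_coe]
          exact congrArg Subtype.val hfx
        rcases hfix _ h1 with h2 | h2 | h2
        · exact absurd (Finset.mem_singleton.mpr h2) ((d.1 : K) • pb).2
        · exact Finset.mem_insert.mpr (Or.inl (Subtype.ext h2))
        · exact Finset.mem_insert_of_mem (Finset.mem_singleton.mpr (Subtype.ext h2))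
      · intro d d' hdd
        exact Subtype.ext (Subtype.ext (hreg _ d.1.2 _ d'.1.2 (congrArg Subtype.val hdd)))
    let f : D₂ → D₂ := fun d => d * ⟨s * (d : K) * s⁻¹, hD2n.conj_mem _ d.2 s⟩
    have hf : ∀ d : D₂, s * (f d : K) * s⁻¹ = f d := by
      intro d
      show s * ((d : K) * (s * d * s⁻¹)) * s⁻¹ = (d : K) * (s * d * s⁻¹)
      have hc' := hDab _ (hD2n.conj_mem _ d.2 s).1 _ d.2.1
      rw [hs'] at hc' ⊢
      calc s * ((d : K) * (s * d * s)) * s = s * d * s * d * (s * s) := by simp only [mul_assoc]
        _ = (d : K) * (s * d * s) := by rw [hss, mul_one]; exact hc'.symm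
    let F : D₂ →* D₂ :=
      { toFun := f
        map_one' := Subtype.ext (by simp [f])
        map_mul' := fun x y => Subtype.ext (by
          show ((x : K) * y) * (s * ((x : K) * y) * s⁻¹) =
            ((x : K) * (s * x * s⁻¹)) * ((y : K) * (s * y * s⁻¹))
          have hc' := hDab _ y.2.1 _ (hD2n.conj_mem _ x.2 s).1
          calc ((x : K) * y) * (s * ((x : K) * y) * s⁻¹)
              = (x : K) * ((y : K) * (s * x * s⁻¹)) * (s * y * s⁻¹) := by group
            _ = _ := by rw [← hc']; simp only [mul_assoc]) }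
    have hrange : Nat.card F.range ≤ 2 := by
      refine le_trans (Nat.card_le_card_of_injective
        (fun x : F.range => (⟨x.1, ?_⟩ : C)) fun x y hxy => Subtype.ext
          (congrArg (fun z : C => z.1) hxy)) hC
      obtain ⟨d, hd⟩ := x.2
      rw [← hd]
      exact hf d
    have hker : Nat.card F.ker ≤ 2 := by
      refine le_trans (Nat.card_le_card_of_injective
        (fun x : F.ker => (⟨x.1, ?_⟩ : C)) fun x y hxy => Subtype.ext
          (congrArg (fun z : C => z.1) hxy)) hC
      have h1 : ((x.1 : D₂) : K) * (s * x.1 * s⁻¹) = 1 := congrArg Subtype.val x.2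
      rw [← inv_eq_of_mul_eq_one_right h1, inv_eq_of_mul_eq_one_right x.1.2.2]
    have hD28 : 8 ≤ Nat.card D₂ := by
      rw [← h8, ← Nat.card_eq_fintype_card, ← index_stabilizer_of_transitive (G := D₂) pb]
      exact Nat.le_of_dvd Nat.card_pos (Subgroup.index_dvd_card _)
    have := F.ker.card_mul_index
    rw [Subgroup.index_ker] at this
    have := Nat.mul_le_mul hker hrange
    omega
  have h1 : 1 ≤ Nat.card (pointFix G T) := Nat.card_pos
  have h6 : Nat.card (pointFix G T) ≤ 6 := by omega
  rcases hdvd with ⟨q, hq⟩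
  interval_cases hgc : Nat.card (pointFix G T) <;> first
    | omega
    | (exfalso
       have hH7 : Nat.card H = 7 * Nat.card (pointFix G T) := by omega
       rw [hH7, hgc] at hq
       omega)

/-- Degree thirteen, five-transitive. -/
theorem thirteen_five {G : Subgroup (Perm α)} (hn : Fintype.card α = 13)
    (ht : IsMultiplyPretransitive G α 5) (hns : ¬ IsMultiplyPretransitive G α (5 + 1)) : False := by
  haveI : Fact (Nat.Prime 11) := ⟨by norm_num⟩
  have hA := not_alternating_le hns (by omega)
  have hprim := isPreprimitive_of_isMultiplyPretransitive ht (by omega) (by omega)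
  obtain ⟨S, hS⟩ := exists_points (α := α) (t := 2) (by omega)
  set H := restrict G S with hH
  have h11 : Fintype.card {x // x ∉ S} = 11 := by rw [card_compl_points, hS, hn]
  have h3 : IsMultiplyPretransitive H {x // x ∉ S} 3 := by
    have := isMultiplyPretransitive_restrict (T := S) ht (by omega) (by omega)
    rwa [hS] at this
  haveI := isMultiplyPretransitive_of_le (G := H) (α := {x // x ∉ S}) (m := 1) (n := 3) (by omega)
    (by rw [Nat.card_eq_fintype_card]; omega)
  haveI : IsPretransitive H {x // x ∉ S} := is_one_pretransitive_iff.mp inferInstance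
  obtain ⟨U, hU⟩ := exists_points (α := {x // x ∉ S}) (t := 3) (by omega)
  have hcard : Nat.card H = 990 * Nat.card (pointFix H U) := by rw [card_eq hU h3, h11]; rfl
  have hpos : 1 ≤ Nat.card (pointFix H U) := Nat.card_pos
  have hsol : ¬ Group.IsSolvable H := fun hs => by
    have := (card_le_of_isSolvable h11 hs).1
    omega
  rcases Cfsg.Agent.S0679.result h11 H hsol
      (not_alternating_le_restrict hprim hA (by omega)) with ⟨h4, -⟩ | ⟨⟨φ⟩⟩
  · exact not_restrict_succ ht hns (by omega) (S := S) (by omega) (by rw [hS]; exact h4)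
  · have h660 : Nat.card (Matrix.ProjectiveSpecialLinearGroup (Fin 2) (ZMod 11)) = 660 := by
      have := CfsgLib.PGroup.SelfCentSimple.two_card_psl (F := ZMod 11)
        (by rw [Ne, show (2 : ZMod 11) = ((2 : ℕ) : ZMod 11) by norm_num, ZMod.natCast_eq_zero_iff]; norm_num)
      rw [ZMod.card] at this
      omega
    rw [← Nat.card_congr φ.toEquiv] at h660
    omega

end CfsgLib.SmallGroups.HomExc
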